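import Cfsg.Agent.Lib.PrimeDim.FormDescent
import Cfsg.Agent.Lib.KnownA.PrimeDim.Basic

/-!
Residual step for maximal subgroups of the special linear group: a perfect absolutely irreducible normal subgroup
gives a subfield group, a classical similarity group, or the residual class.
-/

set_option autoImplicit false

namespace Cfsg.Agent.Lib.LinearMax

open Matrix Cfsg.Geo
open Cfsg.Agent.Lib
open scoped MatrixGroups Matrix

variable {F : Type*} [Field F] {n : ℕ}

/-- The possible outcomes of the residual step. -/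
def FormCases [Fintype F] (H : Subgroup (GL (Fin n) F)) : Prop :=
  (∃ (F₀ : Subfield F) (r : ℕ) (B : GL (Fin n) F), r.Prime ∧ Fintype.card F = Nat.card F₀ ^ r ∧
      H = subfieldSubgroup F₀ B ⊓ specialLinear (Fin n) F) ∨
  (Odd (Fintype.card F) ∧ ∃ Q : (Fin n → F) → F, IsNondegenerateQuadraticForm Q ∧
      H = quadSimilarityGroup Q ⊓ specialLinear (Fin n) F) ∨
  (∃ f : (Fin n → F) → (Fin n → F) → F, IsSymplecticForm f ∧ H = similarityGroup f ⊓ specialLinear (Fin n) F) ∨
  (∃ (σ : F ≃+* F) (f : (Fin n → F) → (Fin n → F) → F), IsUnitaryForm σ f ∧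
      H = similarityGroup f ⊓ specialLinear (Fin n) F) ∨
  InLinearResidualClass H

/-- An element normalising an absolutely irreducible group is a similarity of any form it fixes. -/
theorem normaliser_similarity {ι : Type} [Fintype ι] [DecidableEq ι] [Nonempty ι] (σ : F →+* F)
    {f : (ι → F) → (ι → F) → F}
    (hform : ∀ u v, f u v = ∑ i, ∑ j, u i * gramMatrix f i j * σ (v j)) (hnd : IsNondegenerateForm f)
    {P : Subgroup (GL ι F)} (habs : ActsAbsolutelyIrreducibly (matrixSet P)) (hfix : FixesForm (matrixSet P) f)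
    {h : GL ι F} (hn : ∀ x ∈ P, h * x * h⁻¹ ∈ P) : h ∈ similarityGroup f := by
  obtain ⟨U, hU⟩ := PrimeDim.FormDescent.gram_isUnit σ f hform hnd
  obtain ⟨a, ha⟩ : IsUnit (h : Matrix ι ι F)ᵀ := (Matrix.isUnit_transpose _).2 h.isUnit
  obtain ⟨b, hb⟩ : IsUnit ((h : Matrix ι ι F).map σ) := (RingHom.mapMatrix σ).isUnit_map h.isUnit
  have hg := PrimeDim.FormDescent.fixes_gram σ f hform hfix
  obtain ⟨c, hc⟩ := habs.2 (((a * U * b * U⁻¹ : GL ι F) : Matrix ι ι F)ᵀ) fun s hs => by
    obtain ⟨p, hp, rfl⟩ := hs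
    obtain ⟨t, ht⟩ : IsUnit (p : Matrix ι ι F)ᵀ := (Matrix.isUnit_transpose _).2 p.isUnit
    obtain ⟨q, hq⟩ : IsUnit ((p : Matrix ι ι F).map σ) := (RingHom.mapMatrix σ).isUnit_map p.isUnit
    obtain ⟨t', ht'⟩ : IsUnit ((h * p * h⁻¹ : GL ι F) : Matrix ι ι F)ᵀ :=
      (Matrix.isUnit_transpose _).2 (h * p * h⁻¹).isUnit
    obtain ⟨q', hq'⟩ : IsUnit (((h * p * h⁻¹ : GL ι F) : Matrix ι ι F).map σ) :=
      (RingHom.mapMatrix σ).isUnit_map (h * p * h⁻¹).isUnit
    have e1 : t * U * q = U := Units.ext (by rw [Units.val_mul, Units.val_mul, ht, hU, hq]; exact hg p hp)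
    have e2 : t' * U * q' = U := Units.ext (by rw [Units.val_mul, Units.val_mul, ht', hU, hq']; exact hg _ (hn p hp))
    have e3 : a * t' = t * a := Units.ext (by
      rw [Units.val_mul, Units.val_mul, ha, ht, ht', ← Matrix.transpose_mul, ← Matrix.transpose_mul, ← Units.val_mul,
        ← Units.val_mul, inv_mul_cancel_right])
    have e4 : q' * b = b * q := Units.ext (by
      rw [Units.val_mul, Units.val_mul, hb, hq, hq', ← Matrix.map_mul, ← Matrix.map_mul, ← Units.val_mul,
        ← Units.val_mul, inv_mul_cancel_right])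
    have e5 : t * (a * U * b * U⁻¹) = (a * U * b * U⁻¹) * t := by
      calc t * (a * U * b * U⁻¹) = (t * a) * U * (b * q) * (t * U * q)⁻¹ * t := by group
        _ = a * (t' * U * q') * b * U⁻¹ * t := by rw [← e3, ← e4, e1]; group
        _ = _ := by rw [e2]
    have e6 := congrArg (fun x : GL ι F => (x : Matrix ι ι F)ᵀ) e5
    simp only [Units.val_mul t, Units.val_mul _ t, Matrix.transpose_mul, ht, Matrix.transpose_transpose] at e6
    exact e6
  have hV : (h : Matrix ι ι F)ᵀ * gramMatrix f * (h : Matrix ι ι F).map σ = c • gramMatrix f := by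
    have hc' := congrArg Matrix.transpose hc
    rw [Matrix.transpose_transpose, Matrix.transpose_smul, Matrix.transpose_one] at hc'
    have e := congrArg (fun X : Matrix ι ι F => X * (U : Matrix ι ι F)) hc'
    simp only [← Units.val_mul, inv_mul_cancel_right, Matrix.smul_mul, one_mul] at e
    rw [Units.val_mul, Units.val_mul, ha, hU, hb] at e
    exact e
  have hc0 : c ≠ 0 := by
    rintro rfl
    rw [zero_smul] at hV
    refine not_isUnit_zero (M₀ := Matrix ι ι F) (hV ▸ ?_)
    exact (((Matrix.isUnit_transpose _).2 h.isUnit).mul (hU ▸ U.isUnit)).mul ((RingHom.mapMatrix σ).isUnit_map h.isUnit)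
  refine ⟨Units.mk0 c hc0, fun u v => ?_⟩
  rw [PrimeDim.FormDescent.gram_congr σ f hform, hV, Matrix.smul_mulVec, dotProduct_smul, smul_eq_mul, Units.val_mk0,
    hform]
  congr 1
  simp only [dotProduct, Matrix.mulVec, Finset.mul_sum, Function.comp_apply, mul_assoc]

/-- The residual step. -/
theorem forms [Fintype F] (h3 : 3 ≤ n) {H P : Subgroup (GL (Fin n) F)}
    (hH : IsMaximalIn (specialLinear (Fin n) F) H) (le : P ≤ H) (normal : ∀ h ∈ H, ∀ x ∈ P, h * x * h⁻¹ ∈ P)
    (perfect : ⁅P, P⁆ = P) (simple : IsSimpleGroup (P ⧸ (scalars (Fin n) F).subgroupOf P))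
    (nonabelian : ¬ IsMulCommutative (P ⧸ (scalars (Fin n) F).subgroupOf P))
    (centralizer_scalar : ∀ h ∈ H, (∀ x ∈ P, h * x * h⁻¹ * x⁻¹ ∈ scalars (Fin n) F) → h ∈ scalars (Fin n) F)
    (habs : ActsAbsolutelyIrreducibly (matrixSet P)) : FormCases H := by
  haveI : Nonempty (Fin n) := ⟨⟨0, by omega⟩⟩
  by_cases hsub : ∃ F₀ : Subfield F, F₀ ≠ ⊤ ∧ RealisableOver F₀ (matrixSet P)
  · obtain ⟨F₀, h0, hreal⟩ := hsub
    obtain ⟨F₁, r, h1, hr, hc, B, hB⟩ := PrimeDim.FormDescent.exists_prime_index_realisable h0 hreal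
    refine Or.inl ⟨F₁, r, B⁻¹, hr, by rw [← Nat.card_eq_fintype_card]; exact hc, ?_⟩
    exact KnownA.PrimeDim.eq_inf_of_le hH
      (fun h hh => PrimeDim.FormDescent.mem_subfieldSubgroup_of_normalises P habs
        (fun p hp => hB _ ⟨p, hp, rfl⟩) fun x hx => normal h hh x hx)
      (KnownA.PrimeDim.not_le_subfieldSubgroup h3 h1 _)
  simp only [not_exists, not_and] at hsub
  have bil : ∀ f : (Fin n → F) → (Fin n → F) → F, IsBilinearForm f → IsNondegenerateForm f →
      FixesForm (matrixSet P) f → H ≤ similarityGroup f := fun f hf hnd hfix h hh =>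
    normaliser_similarity (RingHom.id F)
      (PrimeDim.FormDescent.form_eq _ f hf.add_left hf.smul_left hf.add_right hf.smul_right) hnd habs hfix
      fun x hx => normal h hh x hx
  by_cases hQ : ∃ Q : (Fin n → F) → F, IsNondegenerateQuadraticForm Q ∧ FixesQuadForm (matrixSet P) Q
  · obtain ⟨Q, hQ, hQfix⟩ := hQ
    have hfix' : FixesForm (matrixSet P) (QuadraticMap.polar Q) := fun s hs u v => by
      simp only [QuadraticMap.polar, ← Matrix.mulVec_add, hQfix s hs]
    have hle := bil _ hQ.polar_bilinear hQ.nondegenerate hfix'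
    by_cases h2 : (2 : F) = 0
    · have hsym : IsSymplecticForm (QuadraticMap.polar Q) := by
        refine ⟨hQ.polar_bilinear, fun v w => ?_, fun v => ?_, hQ.nondegenerate⟩
        · rw [QuadraticMap.polar_comm Q v w]
          linear_combination (QuadraticMap.polar Q w v) * h2
        · rw [KnownA.PrimeDim.polar_apply_self hQ, h2, zero_mul]
      refine Or.inr (Or.inr (Or.inl ⟨_, hsym, KnownA.PrimeDim.eq_inf_of_le hH hle ?_⟩))
      exact KnownA.PrimeDim.not_le_similarityGroup h3 (KnownA.PrimeDim.Sesq.of_bilinear hQ.polar_bilinear)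
        hQ.nondegenerate
    · refine Or.inr (Or.inl ⟨?_, Q, hQ, KnownA.PrimeDim.eq_inf_of_le hH (fun h hh => ?_)
        (KnownA.PrimeDim.not_le_quadSimilarityGroup h3 hQ)⟩)
      · rw [Nat.odd_iff]
        exact FiniteField.odd_card_of_char_ne_two fun h => h2 (by
          haveI := ringChar.of_eq h
          exact CharTwo.two_eq_zero)
      · obtain ⟨c, hc⟩ := hle hh
        refine ⟨c, fun v => ?_⟩
        have e := hc v v
        rw [KnownA.PrimeDim.polar_apply_self hQ, KnownA.PrimeDim.polar_apply_self hQ] at e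
        exact mul_left_cancel₀ h2 (by linear_combination e)
  by_cases hf : ∃ f : (Fin n → F) → (Fin n → F) → F, IsSymplecticForm f ∧ FixesForm (matrixSet P) f
  · obtain ⟨f, hf, hfix⟩ := hf
    refine Or.inr (Or.inr (Or.inl ⟨f, hf, KnownA.PrimeDim.eq_inf_of_le hH (bil f hf.bilinear hf.nondegenerate hfix)
      (KnownA.PrimeDim.not_le_similarityGroup h3 (KnownA.PrimeDim.Sesq.of_bilinear hf.bilinear) hf.nondegenerate)⟩))
  by_cases hu : ∃ (σ : F ≃+* F) (f : (Fin n → F) → (Fin n → F) → F), IsUnitaryForm σ f ∧ FixesForm (matrixSet P) f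
  · obtain ⟨σ, f, hu, hfix⟩ := hu
    have hs := KnownA.PrimeDim.Sesq.of_unitary hu
    refine Or.inr (Or.inr (Or.inr (Or.inl ⟨σ, f, hu, KnownA.PrimeDim.eq_inf_of_le hH (fun h hh => ?_)
      (KnownA.PrimeDim.not_le_similarityGroup h3 hs hu.nondegenerate)⟩)))
    exact normaliser_similarity (σ : F →+* F)
      (PrimeDim.FormDescent.form_eq (σ : F →+* F) f hs.add_left hs.smul_left hs.add_right hs.smul_right)
      hu.nondegenerate habs hfix fun x hx => normal h hh x hx
  exact Or.inr (Or.inr (Or.inr (Or.inr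
    ⟨P, ⟨le, normal, perfect, simple, nonabelian, centralizer_scalar, habs, hsub⟩, hQ, hf, hu⟩)))

end Cfsg.Agent.Lib.LinearMax
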