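import Cfsg.Agent.Lib.KnownA.PrimeDim.Core
import Mathlib

/-!
An absolutely irreducible group that is abelian modulo the scalars and minimal among the non-scalar normal
subgroups lives in prime power dimension.
-/

set_option autoImplicit false

namespace Cfsg.Agent.Lib.LinearMax

open Cfsg.Geo
open scoped MatrixGroups Matrix commutatorElement

variable {ι : Type} [Fintype ι] [DecidableEq ι] {F : Type*} [Field F] [Finite F]

local notation "MM" => Matrix ι ι F

/-- An absolutely irreducible group spans the matrix algebra. -/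
theorem span_eq_top {N : Subgroup (GL ι F)} [Nonempty ι] (habs : ActsAbsolutelyIrreducibly (matrixSet N)) :
    Submodule.span F (matrixSet N) = ⊤ := by
  classical
  haveI : Fintype F := Fintype.ofFinite F
  let A : Subalgebra F (Module.End F (ι → F)) := Algebra.adjoin F (Matrix.toLin' '' matrixSet N)
  have hgen : ∀ s ∈ matrixSet N, Matrix.toLin' s ∈ A := fun s hs => Algebra.subset_adjoin ⟨s, hs, rfl⟩
  haveI : IsSimpleModule A (ι → F) := by
    rw [isSimpleModule_iff]
    refine ⟨fun W => ?_⟩
    rcases habs.1 (W.restrictScalars F) (fun s hs => by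
      rintro _ ⟨w, hw, rfl⟩
      exact W.smul_mem (⟨_, hgen s hs⟩ : A) hw) with h | h
    · exact Or.inl (by simpa using h)
    · exact Or.inr (by simpa using h)
  have hend : ∀ φ : Module.End A (ι → F), ∃ c : F, ∀ v, φ v = c • v := by
    intro φ
    obtain ⟨c, hc⟩ := habs.2 (LinearMap.toMatrix' (φ.restrictScalars F)) (fun s hs => by
      refine Matrix.toLin'.injective (LinearMap.ext fun v => ?_)
      rw [Matrix.toLin'_mul, Matrix.toLin'_mul, Matrix.toLin'_toMatrix']
      exact φ.map_smul (⟨_, hgen s hs⟩ : A) v)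
    refine ⟨c, fun v => ?_⟩
    have h := congrArg (fun M => Matrix.toLin' M v) hc
    simpa [Matrix.smul_mulVec] using h
  have hall : ∀ f : Module.End F (ι → F), f ∈ A := by
    intro f
    let f' : Module.End (Module.End A (ι → F)) (ι → F) :=
      { toFun := f
        map_add' := map_add f
        map_smul' := fun φ v => by
          obtain ⟨c, hc⟩ := hend φ
          show f (φ v) = φ (f v)
          rw [hc, hc, map_smul] }
    obtain ⟨a, ha⟩ := jacobson_density (R := A) (M := ι → F) f' Finset.univ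
    rw [show f = a.1 from LinearMap.ext fun v => ha v (Finset.mem_univ v)]
    exact a.2
  have hone : (1 : MM) ∈ Submodule.span F (matrixSet N) := Submodule.subset_span ⟨1, N.one_mem, rfl⟩
  have hmul : ∀ x ∈ Submodule.span F (matrixSet N), ∀ y ∈ Submodule.span F (matrixSet N),
      x * y ∈ Submodule.span F (matrixSet N) := by
    intro x hx y hy
    induction hx using Submodule.span_induction with
    | mem a ha =>
      induction hy using Submodule.span_induction with
      | mem b hb =>
        obtain ⟨g, hg, rfl⟩ := ha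
        obtain ⟨h, hh, rfl⟩ := hb
        exact Submodule.subset_span ⟨g * h, N.mul_mem hg hh, rfl⟩
      | zero => simp
      | add u v _ _ hu hv => rw [mul_add]; exact add_mem hu hv
      | smul c u _ hu => rw [mul_smul_comm]; exact Submodule.smul_mem _ _ hu
    | zero => simp
    | add u v _ _ hu hv => rw [add_mul]; exact add_mem hu hv
    | smul c u _ hu => rw [smul_mul_assoc]; exact Submodule.smul_mem _ _ hu
  have hsub : A ≤ (Submodule.span F (matrixSet N) |>.toSubalgebra hone fun x y hx hy => hmul x hx y hy).map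
      (Matrix.toLinAlgEquiv' : MM ≃ₐ[F] Module.End F (ι → F)).toAlgHom :=
    Algebra.adjoin_le fun _ ⟨s, hs, hse⟩ => ⟨s, Submodule.subset_span hs, hse⟩
  refine Submodule.eq_top_iff'.2 fun M => ?_
  obtain ⟨s, hs, hse⟩ := hsub (hall (Matrix.toLinAlgEquiv' M))
  rwa [(Matrix.toLinAlgEquiv' : MM ≃ₐ[F] Module.End F (ι → F)).injective hse] at hs

theorem trace_eq_zero {N : Subgroup (GL ι F)} (habs : ActsAbsolutelyIrreducibly (matrixSet N))
    (hcomm : ⁅N, N⁆ ≤ scalars ι F) {x : GL ι F} (hx : x ∈ N) (hxs : x ∉ scalars ι F) :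
    Matrix.trace (x : MM) = 0 := by
  obtain ⟨y, hy, hne⟩ : ∃ y ∈ N, y * x ≠ x * y := by
    by_contra hcon
    push Not at hcon
    obtain ⟨c, hc⟩ := habs.2 (x : MM) (by
      rintro _ ⟨y, hy, rfl⟩
      exact (congrArg Units.val (hcon y hy)).symm)
    refine hxs ((mem_scalars_iff x).2 ?_)
    rcases isEmpty_or_nonempty ι with hι | hι
    · exact ⟨1, Subsingleton.elim _ _⟩
    · refine ⟨Units.mk0 c fun h0 => x.ne_zero (by rw [hc, h0, zero_smul]), hc⟩
  obtain ⟨c, hc⟩ := (mem_scalars_iff _).1 (hcomm (Subgroup.commutator_mem_commutator hy hx))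
  have hconj : ((y : GL ι F) : MM) * x * ((y⁻¹ : GL ι F) : MM) = (c : F) • (x : MM) := by
    have h : y * x * y⁻¹ = ⁅y, x⁆ * x := by rw [commutatorElement_def]; group
    rw [← Units.val_mul, ← Units.val_mul, h, Units.val_mul, hc, smul_mul_assoc, one_mul]
  have hc1 : (c : F) ≠ 1 := fun h1 => hne (by
    have : y * x * y⁻¹ = x := Units.ext (by rw [Units.val_mul, Units.val_mul, hconj, h1, one_smul])
    exact mul_inv_eq_iff_eq_mul.1 this)
  have h2 := congrArg Matrix.trace hconj
  rw [Matrix.trace_smul, smul_eq_mul, Matrix.trace_units_conj] at h2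
  have h3 : ((c : F) - 1) * Matrix.trace (x : MM) = 0 := by rw [sub_mul, one_mul, ← h2, sub_self]
  exact (mul_eq_zero.1 h3).resolve_left (sub_ne_zero.2 hc1)

theorem card_quotient {N : Subgroup (GL ι F)} [Nonempty ι] (habs : ActsAbsolutelyIrreducibly (matrixSet N))
    (hcomm : ⁅N, N⁆ ≤ scalars ι F) :
    Nat.card (N ⧸ (scalars ι F).subgroupOf N) = Fintype.card ι * Fintype.card ι := by
  classical
  haveI : Fintype F := Fintype.ofFinite F
  have hn0 : (Fintype.card ι : F) ≠ 0 := by
    intro h0
    have hle : Submodule.span F (matrixSet N) ≤ LinearMap.ker (Matrix.traceLinearMap ι F F) := by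
      rw [Submodule.span_le]
      rintro _ ⟨x, hx, rfl⟩
      show Matrix.trace (x : MM) = 0
      by_cases hxs : x ∈ scalars ι F
      · obtain ⟨c, hc⟩ := (mem_scalars_iff x).1 hxs
        rw [hc, Matrix.trace_smul, Matrix.trace_one, h0, smul_zero]
      · exact trace_eq_zero habs hcomm hx hxs
    rw [span_eq_top habs] at hle
    have h1 := hle (Submodule.mem_top : (Matrix.single (Classical.arbitrary ι) (Classical.arbitrary ι) (1 : F)) ∈ ⊤)
    simp at h1
  let Q := N ⧸ (scalars ι F).subgroupOf N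
  haveI : Fintype Q := Fintype.ofFinite Q
  let rep : Q → N := Quotient.out
  let b : Q → MM := fun q => ((rep q : GL ι F) : MM)
  have hoff : ∀ q q0 : Q, q ≠ q0 → Matrix.trace (b q * (((rep q0 : GL ι F)⁻¹ : GL ι F) : MM)) = 0 := by
    intro q q0 hne
    refine trace_eq_zero habs hcomm (N.mul_mem (rep q).2 (N.inv_mem (rep q0).2)) fun hs => hne ?_
    rw [← QuotientGroup.out_eq' q, ← QuotientGroup.out_eq' q0]
    refine Eq.symm (QuotientGroup.eq.2 ?_)
    rw [Subgroup.mem_subgroupOf, Subgroup.coe_mul, Subgroup.coe_inv]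
    have h := (scalars_normal (ι := ι) (F := F)).conj_mem _ hs ((rep q0 : GL ι F)⁻¹)
    simpa [mul_assoc, rep] using h
  have hli : LinearIndependent F b := by
    rw [Fintype.linearIndependent_iff]
    intro a ha q0
    have h := congrArg (fun M => Matrix.trace (M * (((rep q0 : GL ι F)⁻¹ : GL ι F) : MM))) ha
    simp only [Finset.sum_mul, Matrix.trace_sum, smul_mul_assoc, Matrix.trace_smul, zero_mul,
      Matrix.trace_zero] at h
    rw [Finset.sum_eq_single q0 (fun q _ hq => by rw [hoff q q0 hq, smul_zero]) (by simp)] at h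
    rw [Units.mul_inv, Matrix.trace_one, smul_eq_mul, mul_eq_zero] at h
    exact h.resolve_right hn0
  have hspan : ⊤ ≤ Submodule.span F (Set.range b) := by
    rw [← span_eq_top habs, Submodule.span_le]
    rintro _ ⟨x, hx, rfl⟩
    set q : Q := QuotientGroup.mk ⟨x, hx⟩
    have hq : QuotientGroup.mk (rep q) = q := QuotientGroup.out_eq' q
    have hs := QuotientGroup.eq.1 hq
    rw [Subgroup.mem_subgroupOf, Subgroup.coe_mul, Subgroup.coe_inv] at hs
    obtain ⟨c, hc⟩ := (mem_scalars_iff _).1 hs
    have hx' : (x : MM) = (c : F) • b q := by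
      have h := congrArg (fun M => b q * M) hc
      simp only [mul_smul_comm, mul_one] at h
      rw [← h, ← Units.val_mul, mul_inv_cancel_left]
    show (x : MM) ∈ Submodule.span F (Set.range b)
    rw [hx']
    exact Submodule.smul_mem _ _ (Submodule.subset_span ⟨q, rfl⟩)
  have h := Module.finrank_eq_card_basis (Module.Basis.mk hli hspan)
  rw [Module.finrank_matrix, Module.finrank_self, mul_one] at h
  rw [Nat.card_eq_fintype_card, ← h]

open Cfsg.Agent.Lib.KnownA.PrimeDim in
/-- Two primes dividing the dimension exclude class two. -/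
theorem classTwo_false {H N : Subgroup (GL ι F)} [Nonempty ι]
    (hnorm : Norms H N) (hNs : ¬ N ≤ scalars ι F)
    (hmin : ∀ M : Subgroup (GL ι F), M ≤ N → Norms H M → ¬ M ≤ scalars ι F → M ⊔ (scalars ι F ⊓ H) = N)
    (habs : ActsAbsolutelyIrreducibly (matrixSet N)) (hcomm : ⁅N, N⁆ ≤ scalars ι F)
    {r s : ℕ} (hr : r.Prime) (hs : s.Prime) (hrs : r ≠ s) (hrn : r ∣ Fintype.card ι) (hsn : s ∣ Fintype.card ι) :
    False := by
  classical
  haveI : Fintype F := Fintype.ofFinite F
  haveI : (scalars ι F).Normal := scalars_normal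
  let π := QuotientGroup.mk' (scalars ι F)
  have hπ : ∀ x : GL ι F, π x = 1 ↔ x ∈ scalars ι F := fun x => QuotientGroup.eq_one_iff x
  have hπc : ∀ x ∈ N, ∀ y ∈ N, Commute (π x) (π y) := fun x hx y hy =>
    commutatorElement_eq_one_iff_commute.1 (by
      rw [← map_commutatorElement, hπ]; exact hcomm (Subgroup.commutator_mem_commutator hx hy))
  have hpow : ∀ m : ℕ, m.Prime → m ∣ Fintype.card ι → ∀ x ∈ N, π x ^ m = 1 := by
    intro m hm hmn
    let M : Subgroup (GL ι F) :=
      { carrier := {x | x ∈ N ∧ π x ^ m = 1}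
        mul_mem' := fun {x y} hx hy => ⟨N.mul_mem hx.1 hy.1, by
          rw [map_mul, (hπc x hx.1 y hy.1).mul_pow, hx.2, hy.2, one_mul]⟩
        one_mem' := ⟨N.one_mem, by rw [map_one, one_pow]⟩
        inv_mem' := fun {x} hx => ⟨N.inv_mem hx.1, by rw [map_inv, inv_pow, hx.2, inv_one]⟩ }
    have hMnorm : Norms H M := fun g hg x hx => ⟨hnorm g hg x hx.1, by
      rw [map_mul, map_mul, map_inv, conj_pow, hx.2, mul_one, mul_inv_cancel]⟩
    have hMs : ¬ M ≤ scalars ι F := by
      intro hle
      haveI : Fact m.Prime := ⟨hm⟩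
      obtain ⟨q, hq⟩ := exists_prime_orderOf_dvd_card' (G := N ⧸ (scalars ι F).subgroupOf N) m (by
        rw [card_quotient habs hcomm]; exact dvd_mul_of_dvd_left hmn _)
      obtain ⟨⟨x, hx⟩, rfl⟩ := QuotientGroup.mk_surjective q
      have hxm : x ^ m ∈ scalars ι F := by
        have h := pow_orderOf_eq_one (QuotientGroup.mk (⟨x, hx⟩ : N) : N ⧸ (scalars ι F).subgroupOf N)
        rw [hq, ← QuotientGroup.mk_pow, QuotientGroup.eq_one_iff, Subgroup.mem_subgroupOf] at h
        simpa using h
      have hxs : x ∈ scalars ι F := hle ⟨hx, by rw [← map_pow, hπ]; exact hxm⟩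
      rw [orderOf_eq_one_iff.2 ((QuotientGroup.eq_one_iff _).2 (Subgroup.mem_subgroupOf.2 hxs))] at hq
      exact hm.ne_one hq.symm
    intro x hx
    have hN : M ⊔ (scalars ι F ⊓ H) = N := hmin M (fun x hx => hx.1) hMnorm hMs
    have hle : scalars ι F ⊓ H ≤ M := fun z hz => ⟨hN.le (Subgroup.mem_sup_right hz), by
      rw [(hπ z).2 hz.1, one_pow]⟩
    rw [sup_eq_left.2 hle] at hN
    rw [← hN] at hx
    exact hx.2
  refine hNs fun x hx => ?_
  have hd : orderOf (π x) ∣ Nat.gcd r s :=
    Nat.dvd_gcd (orderOf_dvd_of_pow_eq_one (hpow r hr hrn x hx)) (orderOf_dvd_of_pow_eq_one (hpow s hs hsn x hx))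
  rw [(Nat.coprime_primes hr hs).2 hrs, Nat.dvd_one, orderOf_eq_one_iff, hπ] at hd
  exact hd

end Cfsg.Agent.Lib.LinearMax
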