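import Cfsg.Agent.Lib.KnownA.PrimeDim.Basic

/-!
The special linear group preserves no decomposition, normalises no proper field and preserves no tensor product.
-/

set_option autoImplicit false

namespace Cfsg.Agent.Lib.LinearMax

open Matrix Cfsg.Geo Cfsg.Agent.Lib.MaxSub
open scoped MatrixGroups Matrix Kronecker

variable {n : ℕ} {F : Type*} [Field F]

theorem not_le_decompositionStabilizer {t k : ℕ} {D : Fin t → Submodule F (Fin n → F)}
    (hD : IsMDecomposition k D) : ¬ specialLinear (Fin n) F ≤ decompositionStabilizer D := by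
  intro hle
  have hne : ∀ i, D i ≠ ⊥ := fun i h => by
    have h2 := hD.finrank_eq i
    rw [h, finrank_bot] at h2
    exact absurd h2.symm (Nat.pos_iff_ne_zero.mp hD.pos)
  let i : Fin t := ⟨0, by have := hD.two_le; omega⟩
  let j : Fin t := ⟨1, by have := hD.two_le; omega⟩
  have hij : i ≠ j := by simp [i, j, Fin.ext_iff]
  obtain ⟨w, hw, hw0⟩ := (Submodule.ne_bot_iff _).mp (hne i)
  obtain ⟨u, hu, hu0⟩ := (Submodule.ne_bot_iff _).mp (hne j)
  have hd := hD.indep.pairwiseDisjoint hij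
  obtain ⟨g, hg, hgw⟩ := KnownA.PrimeDim.exists_move hw0 (u := u) fun h =>
    hu0 (Submodule.disjoint_def.mp hd u ((Submodule.span_singleton_le_iff_mem w _).mpr hw h) hu)
  obtain ⟨σ, hσ⟩ := hle hg
  have hm : w + u ∈ D (σ i) := by
    rw [← hσ i, ← hgw, ← Matrix.toLin'_apply]
    exact Submodule.mem_map_of_mem hw
  by_cases h1 : σ i = i
  · rw [h1, Submodule.add_mem_iff_right _ hw] at hm
    exact hu0 (Submodule.disjoint_def.mp hd u hm hu)
  · have h2 : w + u ∈ ⨆ (l) (_ : l ≠ i), D l :=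
      Submodule.mem_iSup_of_mem (σ i) (Submodule.mem_iSup_of_mem h1 hm)
    have h3 : u ∈ ⨆ (l) (_ : l ≠ i), D l :=
      Submodule.mem_iSup_of_mem j (Submodule.mem_iSup_of_mem hij.symm hu)
    have h4 := sub_mem h2 h3
    rw [add_sub_cancel_right] at h4
    exact hw0 (Submodule.disjoint_def.mp (hD.indep i) w hw h4)

theorem not_le_subalgebraNormalizer (hn : 3 ≤ n) {r : ℕ} (hr : 2 ≤ r)
    {K : Subalgebra F (Matrix (Fin n) (Fin n) F)} (hK : IsFieldSubalgebra r K) :
    ¬ specialLinear (Fin n) F ≤ subalgebraNormalizer K := by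
  intro hle
  have hzero : ∀ d ∈ K, ∀ z : Fin n → F, z ≠ 0 → d *ᵥ z = 0 → d = 0 := by
    intro d hd z hz hdz
    by_contra hd0
    obtain ⟨d', -, hdd'⟩ := hK.inv d hd hd0
    have hd'd : d' * d = 1 := mul_eq_one_comm.mp hdd'
    exact hz (by rw [← Matrix.one_mulVec z, ← hd'd, ← Matrix.mulVec_mulVec, hdz, Matrix.mulVec_zero])
  obtain ⟨k, hk, hknot⟩ : ∃ k ∈ K, ∀ a : F, k ≠ a • 1 := by
    by_contra hc
    push Not at hc
    have hsub : K.toSubmodule ≤ F ∙ (1 : Matrix (Fin n) (Fin n) F) := fun k hk =>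
      Submodule.mem_span_singleton.mpr (let ⟨a, ha⟩ := hc k hk; ⟨a, ha.symm⟩)
    have h2 := Submodule.finrank_mono hsub
    have hle1 : Module.finrank F (F ∙ (1 : Matrix (Fin n) (Fin n) F)) ≤ 1 := by
      simpa using finrank_span_le_card (R := F) ({1} : Set (Matrix (Fin n) (Fin n) F))
    rw [Subalgebra.finrank_toSubmodule, hK.finrank_eq] at h2
    omega
  -- every vector is an eigenvector of `k`
  have heig : ∀ u : Fin n → F, u ≠ 0 → ∃ c : F, k *ᵥ u = c • u := by
    intro u hu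
    by_contra hno
    push Not at hno
    obtain ⟨a, ha, hax⟩ := exists_functional (F ∙ u) (x := k *ᵥ u) fun h => by
      obtain ⟨c, hc⟩ := Submodule.mem_span_singleton.mp h
      exact hno c hc.symm
    have hau := ha u (Submodule.mem_span_singleton_self u)
    set T := tv u a hau with hT
    have hconj : (T : Matrix (Fin n) (Fin n) F) * k * ((T⁻¹ : GL (Fin n) F) : Matrix (Fin n) (Fin n) F) - k ∈ K :=
      K.sub_mem ((hle (tv_mem_specialLinear u a hau) k).mp hk) hk
    obtain ⟨z, hz, hz0⟩ : ∃ z ∈ LinearMap.ker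
        (Matrix.toLin' (Matrix.of ![a, a ᵥ* k])), z ≠ 0 := by
      refine (Submodule.ne_bot_iff _).mp fun h => ?_
      have h2 := LinearMap.finrank_le_finrank_of_injective (LinearMap.ker_eq_bot.mp h)
      rw [Module.finrank_fin_fun, Module.finrank_fin_fun] at h2
      omega
    rw [LinearMap.mem_ker, Matrix.toLin'_apply] at hz
    have hz1 : a ⬝ᵥ z = 0 := congrFun hz 0
    have hz2 : a ⬝ᵥ (k *ᵥ z) = 0 := by rw [Matrix.dotProduct_mulVec]; exact congrFun hz 1
    have hTz : ((T⁻¹ : GL (Fin n) F) : Matrix (Fin n) (Fin n) F) *ᵥ z = z := by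
      rw [hT, tv_inv, tv_mulVec, neg_dotProduct, hz1, neg_zero, zero_smul, add_zero]
    have hd0 := hzero _ hconj z hz0 (by
      rw [Matrix.sub_mulVec, ← Matrix.mulVec_mulVec, hTz, ← Matrix.mulVec_mulVec, hT, tv_mulVec,
        hz2, zero_smul, add_zero, sub_self])
    have hcomm : (T : Matrix (Fin n) (Fin n) F) * k = k * T := by
      have h := congrArg (· * (T : Matrix (Fin n) (Fin n) F)) (sub_eq_zero.mp hd0)
      simpa only [mul_assoc, ← Units.val_mul, inv_mul_cancel, Units.val_one, mul_one] using h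
    have h := congrArg (fun M : Matrix (Fin n) (Fin n) F => M *ᵥ u) hcomm
    simp only [← Matrix.mulVec_mulVec, hT, tv_mulVec, hau, zero_smul, add_zero, hax, one_smul] at h
    exact hu (add_left_cancel (h.trans (add_zero _).symm))
  have hu₀ : (Pi.single ⟨0, by omega⟩ 1 : Fin n → F) ≠ 0 := fun h =>
    one_ne_zero (α := F) (Pi.single_eq_zero_iff.mp h)
  obtain ⟨a, ha⟩ := heig _ hu₀
  refine hknot a (sub_eq_zero.mp (hzero _ (K.sub_mem hk (K.smul_mem K.one_mem a)) _ hu₀ ?_))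
  rw [Matrix.sub_mulVec, ha, Matrix.smul_mulVec, Matrix.one_mulVec, sub_self]

theorem exists_kernel {k : ℕ} (hk : 2 ≤ k) (v : Fin k → F) : ∃ z : Fin k → F, z ≠ 0 ∧ v ⬝ᵥ z = 0 := by
  let i : Fin k := ⟨0, by omega⟩
  let j : Fin k := ⟨1, by omega⟩
  have hij : i ≠ j := Fin.ne_of_val_ne (by simp [i, j])
  by_cases h : v i = 0
  · exact ⟨Pi.single i 1, fun h' => one_ne_zero (α := F) (Pi.single_eq_zero_iff.mp h'), by simp [h]⟩
  · refine ⟨v j • Pi.single i 1 - v i • Pi.single j 1, fun h' => h ?_, by simp [mul_comm]⟩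
    simpa [hij, hij.symm] using congrFun h' j

theorem not_le_tensorProductSubgroup {d k : ℕ} (hd : 2 ≤ d) (hk : 2 ≤ k) (e : Fin n ≃ Fin d × Fin k)
    (P : GL (Fin n) F) : ¬ specialLinear (Fin n) F ≤ tensorProductSubgroup d k e P := by
  intro hle
  set i₀ : Fin n := e.symm (⟨0, by omega⟩, ⟨0, by omega⟩) with hi0
  set i₁ : Fin n := e.symm (⟨1, by omega⟩, ⟨0, by omega⟩) with hi1
  have hne : i₀ ≠ i₁ := by simp [hi0, hi1]
  set w : Fin n → F := Pi.single i₀ 1 with hwdef
  set a₁ : Fin n → F := Pi.single i₁ 1 with hadef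
  have hw : w ≠ 0 := fun h => one_ne_zero (α := F) (Pi.single_eq_zero_iff.mp h)
  have ha1 : a₁ ≠ 0 := fun h => one_ne_zero (α := F) (Pi.single_eq_zero_iff.mp h)
  have haw : a₁ ⬝ᵥ w = 0 := by simp [hwdef, hadef, hne]
  obtain ⟨g, hg, hgeq⟩ := hle (tv_mem_specialLinear w a₁ haw)
  obtain ⟨h, ⟨a, b, hab⟩, rfl⟩ := hg
  -- in the tensor frame the transvection is `1 + U Vᵀ` with `V ⬝ U = 0`
  set Pi' : Matrix (Fin n) (Fin n) F := ((P⁻¹ : GL (Fin n) F) : Matrix (Fin n) (Fin n) F) with hPi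
  let U : Fin d × Fin k → F := fun p => (Pi' *ᵥ w) (e.symm p)
  let Vf : Fin d × Fin k → F := fun p => (a₁ ᵥ* (P : Matrix (Fin n) (Fin n) F)) (e.symm p)
  have hmat : Pi' * ((tv w a₁ haw : GL (Fin n) F) : Matrix (Fin n) (Fin n) F) *
        (P : Matrix (Fin n) (Fin n) F) =
      1 + Matrix.vecMulVec (Pi' *ᵥ w) (a₁ ᵥ* (P : Matrix (Fin n) (Fin n) F)) := by
    refine MaxSub.eq_of_mulVec_eq fun x => ?_
    rw [← Matrix.mulVec_mulVec, ← Matrix.mulVec_mulVec, tv_mulVec, Matrix.mulVec_add,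
      Matrix.mulVec_smul, Matrix.mulVec_mulVec, hPi, ← Units.val_mul, inv_mul_cancel, Units.val_one,
      Matrix.one_mulVec, Matrix.add_mulVec, Matrix.one_mulVec, Matrix.vecMulVec_mulVec, op_smul_eq_smul,
      ← Matrix.dotProduct_mulVec]
  have hent : ∀ p q, (a : Matrix (Fin d) (Fin d) F) p.1 q.1 * (b : Matrix (Fin k) (Fin k) F) p.2 q.2 =
      (if p = q then 1 else 0) + U p * Vf q := by
    intro p q
    have h1 : (h : Matrix (Fin d × Fin k) (Fin d × Fin k) F) p q =
        (Pi' * ((tv w a₁ haw : GL (Fin n) F) : Matrix (Fin n) (Fin n) F) *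
          (P : Matrix (Fin n) (Fin n) F)) (e.symm p) (e.symm q) := by
      rw [← hgeq]
      simp only [MulEquiv.coe_toMonoidHom, MulAut.conj_apply, Units.val_mul]
      simp only [hPi, ← mul_assoc, ← Units.val_mul, inv_mul_cancel, one_mul]
      simp only [mul_assoc, ← Units.val_mul, inv_mul_cancel, mul_one]
      simp [glReindex]
    rw [hab, hmat, Matrix.kronecker_apply, Matrix.add_apply, Matrix.one_apply, Matrix.vecMulVec_apply] at h1
    simpa only [EmbeddingLike.apply_eq_iff_eq, U, Vf] using h1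
  have hVU : ∑ p, Vf p * U p = 0 := by
    rw [Equiv.sum_comp e.symm (fun i => (a₁ ᵥ* (P : Matrix (Fin n) (Fin n) F)) i * (Pi' *ᵥ w) i)]
    show (a₁ ᵥ* (P : Matrix (Fin n) (Fin n) F)) ⬝ᵥ (Pi' *ᵥ w) = 0
    rw [← Matrix.dotProduct_mulVec, Matrix.mulVec_mulVec, hPi, ← Units.val_mul, mul_inv_cancel, Units.val_one,
      Matrix.one_mulVec, haw]
  have hoff : ∀ i i', i ≠ i' → (a : Matrix (Fin d) (Fin d) F) i i' = 0 := by
    intro i i' hii
    by_contra h0
    obtain ⟨z, hz0, hz⟩ := exists_kernel hk fun j' => Vf (i', j')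
    refine hz0 (Matrix.mulVec_injective_iff_isUnit.mpr b.isUnit ?_)
    rw [Matrix.mulVec_zero]
    funext j
    refine mul_left_cancel₀ h0 ?_
    rw [Pi.zero_apply, mul_zero, Matrix.mulVec, dotProduct, Finset.mul_sum]
    calc ∑ j', (a : Matrix (Fin d) (Fin d) F) i i' * ((b : Matrix (Fin k) (Fin k) F) j j' * z j')
        = ∑ j', U (i, j) * (Vf (i', j') * z j') := Finset.sum_congr rfl fun j' _ => by
          rw [← mul_assoc, hent (i, j) (i', j'), if_neg (by simp [hii]), zero_add, mul_assoc]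
      _ = 0 := by rw [← Finset.mul_sum]; exact mul_eq_zero_of_right _ hz
  have hoff' : ∀ j j', j ≠ j' → (b : Matrix (Fin k) (Fin k) F) j j' = 0 := by
    intro j j' hjj
    by_contra h0
    obtain ⟨z, hz0, hz⟩ := exists_kernel hd fun i' => Vf (i', j')
    refine hz0 (Matrix.mulVec_injective_iff_isUnit.mpr a.isUnit ?_)
    rw [Matrix.mulVec_zero]
    funext i
    refine mul_right_cancel₀ h0 ?_
    rw [Pi.zero_apply, zero_mul, Matrix.mulVec, dotProduct, Finset.sum_mul]
    calc ∑ i', (a : Matrix (Fin d) (Fin d) F) i i' * z i' * (b : Matrix (Fin k) (Fin k) F) j j'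
        = ∑ i', U (i, j) * (Vf (i', j') * z i') := Finset.sum_congr rfl fun i' _ => by
          rw [mul_right_comm, hent (i, j) (i', j'), if_neg (by simp [hjj]), zero_add, mul_assoc]
      _ = 0 := by rw [← Finset.mul_sum]; exact mul_eq_zero_of_right _ hz
  have hdiag : ∀ p q, p ≠ q → U p * Vf q = 0 := by
    intro p q hpq
    have h1 := hent p q
    rw [if_neg hpq, zero_add] at h1
    rw [← h1]
    by_cases h2 : p.1 = q.1
    · rw [hoff' _ _ fun h3 => hpq (Prod.ext h2 h3), mul_zero]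
    · rw [hoff _ _ h2, zero_mul]
  obtain ⟨p, hp⟩ : ∃ p, U p ≠ 0 := by
    by_contra hc
    push Not at hc
    refine hw ?_
    have h2 : Pi' *ᵥ w = 0 := funext fun i => by simpa [U] using hc (e i)
    simpa [hPi, Matrix.mulVec_mulVec, ← Units.val_mul] using
      congrArg ((P : Matrix (Fin n) (Fin n) F) *ᵥ ·) h2
  have hVq : ∀ q, q ≠ p → Vf q = 0 := fun q hq => (mul_eq_zero.mp (hdiag p q hq.symm)).resolve_left hp
  rw [Fintype.sum_eq_single p fun q hq => by rw [hVq q hq, zero_mul]] at hVU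
  have hVall : ∀ q, Vf q = 0 := fun q => by
    by_cases hq : q = p
    · subst hq; exact (mul_eq_zero.mp hVU).resolve_right hp
    · exact hVq q hq
  have hV0 : a₁ ᵥ* (P : Matrix (Fin n) (Fin n) F) = 0 := funext fun i => by simpa [Vf] using hVall (e i)
  refine ha1 ?_
  simpa [Matrix.vecMul_vecMul, ← Units.val_mul] using
    congrArg (fun x => x ᵥ* ((P⁻¹ : GL (Fin n) F) : Matrix (Fin n) (Fin n) F)) hV0

end Cfsg.Agent.Lib.LinearMax
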