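import Cfsg.Agent.Lib.SLFour.SmallLines

/-!
Over very small fields a decomposition into lines or planes is stabilised only inside a subspace stabiliser or a
similarity group.
-/

set_option autoImplicit false

namespace Cfsg.Agent.Lib.LinearMax

open Cfsg.Geo Cfsg.Agent.Lib.SLFour
open scoped Matrix

section Lines

variable {n t : ℕ} {F : Type*} [Field F] [Fintype F] {D : Fin t → Submodule F (Fin n → F)}

theorem le_line_of_card_two (hq : Fintype.card F = 2) (hD : IsMDecomposition 1 D) :
    ∃ W : Submodule F (Fin n → F), W ≠ ⊥ ∧ W ≠ ⊤ ∧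
      decompositionStabilizer D ≤ subspaceStabilizer W := by
  obtain ⟨b, hb⟩ := exists_frame hD
  set s : Fin n → F := ∑ i, b i with hs
  have hrs : ∀ i, b.repr s i = 1 := fun i => by
    rw [hs, map_sum, Finsupp.finsetSum_apply, Finset.sum_eq_single i]
    · simp
    · intro j _ hj; simp [hj]
    · simp
  have htn : t = n := by simpa using (Module.finrank_eq_card_basis b).symm
  have hs0 : s ≠ 0 := fun e => by simpa [e] using hrs ⟨0, by have := hD.two_le; omega⟩
  refine ⟨Submodule.span F {s}, by simpa using hs0, fun e => ?_, fun g hg => ?_⟩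
  · have h1 := congrArg (fun W : Submodule F (Fin n → F) => Module.finrank F W) e
    simp only [finrank_span_singleton hs0, finrank_top, Module.finrank_fin_fun] at h1
    have := hD.two_le
    omega
  · obtain ⟨σ, d, hd0, -, hrep⟩ := frame_mono hb hg
    have hd1 : ∀ i, d i = 1 := fun i => by
      have := FiniteField.pow_card_sub_one_eq_one (d i) (hd0 i)
      simpa [hq] using this
    have hfix : (g : Matrix (Fin n) (Fin n) F) *ᵥ s = s := by
      apply b.repr.injective
      ext j
      obtain ⟨i, rfl⟩ := σ.surjective j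
      rw [hrep, hd1, hrs, hrs, one_mul]
    intro v
    show v ∈ Submodule.span F {s} ↔ (g : Matrix (Fin n) (Fin n) F) *ᵥ v ∈ Submodule.span F {s}
    simp only [Submodule.mem_span_singleton]
    constructor
    · rintro ⟨c, rfl⟩
      exact ⟨c, by rw [Matrix.mulVec_smul, hfix]⟩
    · rintro ⟨c, hc⟩
      refine ⟨c, ?_⟩
      have := congrArg (fun w => ((g⁻¹ : GL (Fin n) F) : Matrix (Fin n) (Fin n) F) *ᵥ w)
        (show (g : Matrix (Fin n) (Fin n) F) *ᵥ (c • s) = (g : Matrix (Fin n) (Fin n) F) *ᵥ v by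
          rw [Matrix.mulVec_smul, hfix, hc])
      simpa [Matrix.mulVec_mulVec, ← Units.val_mul] using this

theorem le_quad_of_card_three (hq : Fintype.card F = 3) (hD : IsMDecomposition 1 D) :
    ∃ Q : (Fin n → F) → F, IsNondegenerateQuadraticForm Q ∧
      decompositionStabilizer D ≤ quadSimilarityGroup Q := by
  obtain ⟨b, hb⟩ := exists_frame hD
  set Q : (Fin n → F) → F := fun v => ∑ i, (b.repr v i) ^ 2 with hQ
  have hpol : ∀ u v, QuadraticMap.polar Q u v = 2 * ∑ i, b.repr u i * b.repr v i := by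
    intro u v
    simp only [QuadraticMap.polar, hQ, map_add, Finsupp.add_apply, Finset.mul_sum,
      ← Finset.sum_sub_distrib]
    exact Finset.sum_congr rfl fun i _ => by ring
  have h2 : (2 : F) ≠ 0 := by
    intro h
    haveI : CharP F 2 := CharTwo.of_one_ne_zero_of_two_eq_zero one_ne_zero h
    obtain ⟨m, -, hn⟩ := FiniteField.card F 2
    rw [hq] at hn
    exact absurd (hn ▸ dvd_pow_self 2 m.ne_zero : 2 ∣ 3) (by norm_num)
  refine ⟨Q, ⟨?_, ?_, ?_⟩, fun g hg => ?_⟩
  · intro c v
    simp only [hQ, map_smul, Finsupp.smul_apply, smul_eq_mul, Finset.mul_sum]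
    exact Finset.sum_congr rfl fun i _ => by ring
  · constructor <;> intros <;>
      simp only [hpol, map_add, map_smul, Finsupp.add_apply, Finsupp.smul_apply, smul_eq_mul,
        add_mul, mul_add, Finset.sum_add_distrib, Finset.mul_sum] <;>
      first | rfl | exact Finset.sum_congr rfl fun i _ => by ring
  · intro v hv
    obtain ⟨i, hi⟩ : ∃ i, b.repr v i ≠ 0 := by
      by_contra hcon
      push Not at hcon
      exact hv (b.repr.injective (by ext i; simp [hcon i]))
    constructor <;> refine ⟨b i, ?_⟩ <;> rw [hpol, Finset.sum_eq_single i] <;>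
      first
        | (simpa [h2] using hi)
        | (intro j _ hj; simp [hj])
        | simp
  · obtain ⟨σ, d, hd0, -, hrep⟩ := frame_mono hb hg
    refine ⟨1, fun v => ?_⟩
    rw [Units.val_one, one_mul, hQ]
    simp only
    rw [← Equiv.sum_comp σ]
    refine Finset.sum_congr rfl fun i _ => ?_
    have hd2 : d i ^ 2 = 1 := by simpa [hq] using FiniteField.pow_card_sub_one_eq_one (d i) (hd0 i)
    rw [hrep, mul_pow, hd2, one_mul]

theorem le_unitary_of_card_four (hq : Fintype.card F = 4) (hD : IsMDecomposition 1 D) :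
    ∃ (σ : F ≃+* F) (f : (Fin n → F) → (Fin n → F) → F), IsUnitaryForm σ f ∧
      decompositionStabilizer D ≤ similarityGroup f := by
  obtain ⟨b, hb⟩ := exists_frame hD
  haveI : Fact (Nat.Prime 2) := ⟨Nat.prime_two⟩
  obtain ⟨p, hp⟩ := CharP.exists F
  obtain ⟨m, hpp, hn⟩ := FiniteField.card F p
  obtain rfl : p = 2 := by
    have h1 : p ∣ 2 ^ 2 := by
      rw [show (2 : ℕ) ^ 2 = Fintype.card F by rw [hq]; norm_num, hn]
      exact dvd_pow_self p m.ne_zero
    exact (Nat.prime_dvd_prime_iff_eq hpp Nat.prime_two).1 (hpp.dvd_of_dvd_pow h1)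
  haveI : ExpChar F 2 := ExpChar.prime Nat.prime_two
  set σ : F ≃+* F := frobeniusEquiv F 2 with hσ
  have hap : ∀ a : F, σ a = a ^ 2 := fun a => frobeniusEquiv_def F 2 a
  have hinv : ∀ a : F, σ (σ a) = a := fun a => by
    rw [hap, hap, ← pow_mul]
    simpa [hq] using FiniteField.pow_card a
  have hne : σ ≠ RingEquiv.refl F := by
    intro h
    have h1 : ∀ a : F, a = 0 ∨ a = 1 := fun a => by
      have := congrArg (fun e : F ≃+* F => e a) h
      simp only [hap, RingEquiv.refl_apply] at this
      exact (IsIdempotentElem.iff_eq_zero_or_one.1 (show IsIdempotentElem a by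
        rw [IsIdempotentElem, ← pow_two]; exact this))
    classical
    have : Fintype.card F ≤ ({0, 1} : Finset F).card := by
      rw [← Finset.card_univ]
      exact Finset.card_le_card fun a _ => by rcases h1 a with rfl | rfl <;> simp
    have h2 : ({0, 1} : Finset F).card ≤ 2 := Finset.card_le_two
    omega
  set f : (Fin n → F) → (Fin n → F) → F := fun u v => ∑ i, b.repr u i * σ (b.repr v i) with hf
  refine ⟨σ, f, ⟨hne, hinv, ?_, ?_, ?_, ?_⟩, fun g hg => ?_⟩
  · intro x y v
    simp only [hf, map_add, Finsupp.add_apply, add_mul, Finset.sum_add_distrib]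
  · intro c x v
    simp only [hf, map_smul, Finsupp.smul_apply, smul_eq_mul, Finset.mul_sum, mul_assoc]
  · intro v w
    simp only [hf, map_sum, map_mul, hinv]
    exact Finset.sum_congr rfl fun i _ => mul_comm _ _
  · intro v hv
    obtain ⟨i, hi⟩ : ∃ i, b.repr v i ≠ 0 := by
      by_contra hcon
      push Not at hcon
      exact hv (b.repr.injective (by ext i; simp [hcon i]))
    constructor <;> refine ⟨b i, ?_⟩ <;> simp only [hf] <;> rw [Finset.sum_eq_single i] <;>
      first
        | (simpa using hi)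
        | (intro j _ hj; simp [hj])
        | simp
  · obtain ⟨π, d, hd0, -, hrep⟩ := frame_mono hb hg
    refine ⟨1, fun u v => ?_⟩
    rw [Units.val_one, one_mul]
    simp only [hf]
    rw [← Equiv.sum_comp π]
    refine Finset.sum_congr rfl fun i _ => ?_
    have hd3 : d i * σ (d i) = 1 := by
      rw [hap, ← pow_succ']
      simpa [hq] using FiniteField.pow_card_sub_one_eq_one (d i) (hd0 i)
    rw [hrep, hrep, map_mul]
    linear_combination (b.repr u i * σ (b.repr v i)) * hd3

end Lines

section Planes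

variable {n t : ℕ} {F : Type*} [Field F] [Fintype F] {D : Fin t → Submodule F (Fin n → F)}

theorem planes_le_symplectic (hq : Fintype.card F = 2) (hD : IsMDecomposition 2 D) :
    ∃ f : (Fin n → F) → (Fin n → F) → F, IsSymplecticForm f ∧
      decompositionStabilizer D ≤ similarityGroup f := by
  classical
  have hint : DirectSum.IsInternal D :=
    DirectSum.isInternal_submodule_of_iSupIndep_of_iSup_eq_top hD.indep hD.iSup_eq_top
  let bb : (i : Fin t) → Module.Basis (Fin 2) F (D i) :=
    fun i => Module.finBasisOfFinrankEq F (D i) (hD.finrank_eq i)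
  let B := hint.collectedBasis bb
  set f : (Fin n → F) → (Fin n → F) → F := fun u v => ∑ i : Fin t,
    (B.repr u ⟨i, 0⟩ * B.repr v ⟨i, 1⟩ - B.repr u ⟨i, 1⟩ * B.repr v ⟨i, 0⟩) with hf
  have hsingle : ∀ (i : Fin t) (r : Fin 2) (w : Fin n → F),
      f w (B ⟨i, r⟩) = (if r = 1 then B.repr w ⟨i, 0⟩ else -B.repr w ⟨i, 1⟩) := by
    intro i r w
    simp only [hf]
    rw [Finset.sum_eq_single i (fun j _ hj => by simp [Ne.symm hj]) (by simp)]
    fin_cases r <;> simp
  have hskew : ∀ v w, f v w = -f w v := fun v w => by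
    simp only [hf, ← Finset.sum_neg_distrib]
    exact Finset.sum_congr rfl fun i _ => by ring
  refine ⟨f, ⟨⟨?_, ?_, ?_, ?_⟩, hskew, fun v => by simp only [hf]; exact Finset.sum_eq_zero fun i _ => by ring,
    fun v hv => ?_⟩, fun g hg => ?_⟩
  all_goals try (intros; simp only [hf, map_add, map_smul, Finsupp.add_apply, Finsupp.smul_apply,
    smul_eq_mul, Finset.mul_sum, ← Finset.sum_add_distrib]; exact Finset.sum_congr rfl fun i _ => by ring)
  · obtain ⟨⟨i, r⟩, hir⟩ : ∃ x, B.repr v x ≠ 0 := by
      by_contra hcon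
      push Not at hcon
      exact hv (B.repr.injective (by ext x; simp [hcon x]))
    have h : ∃ w, f v w ≠ 0 := by
      fin_cases r
      · exact ⟨B ⟨i, 1⟩, by rw [hsingle]; simpa using hir⟩
      · exact ⟨B ⟨i, 0⟩, by rw [hsingle]; simpa using hir⟩
    obtain ⟨w, hw⟩ := h
    exact ⟨⟨w, fun h => hw (by rw [hskew, h, neg_zero])⟩, w, hw⟩
  · obtain ⟨σ, hσ⟩ := hg
    set M : Fin t → Matrix (Fin 2) (Fin 2) F := fun i r s =>
      B.repr ((g : Matrix (Fin n) (Fin n) F) *ᵥ B ⟨i, s⟩) ⟨σ i, r⟩ with hM
    have hco : ∀ v i r, B.repr ((g : Matrix (Fin n) (Fin n) F) *ᵥ v) ⟨σ i, r⟩ =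
        M i r 0 * B.repr v ⟨i, 0⟩ + M i r 1 * B.repr v ⟨i, 1⟩ := by
      intro v i r
      conv_lhs => rw [← B.sum_repr v]
      rw [Matrix.mulVec_sum, map_sum, Finsupp.finsetSum_apply, Fintype.sum_sigma,
        Finset.sum_eq_single i ?_ (by simp)]
      · simp [Fin.sum_univ_two, hM, Matrix.mulVec_smul, mul_comm]
      · intro j _ hji
        refine Finset.sum_eq_zero fun s _ => ?_
        have h1 : (g : Matrix (Fin n) (Fin n) F) *ᵥ B ⟨j, s⟩ ∈ D (σ j) := by
          rw [← hσ j, ← Matrix.toLin'_apply]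
          exact Submodule.mem_map_of_mem (hint.collectedBasis_mem bb ⟨j, s⟩)
        rw [Matrix.mulVec_smul, map_smul, Finsupp.smul_apply,
          hint.collectedBasis_repr_of_mem_ne bb (i := σ j) (fun h => hji (σ.injective h)) h1, smul_zero]
    have hdet : ∀ i, M i 0 0 * M i 1 1 - M i 0 1 * M i 1 0 = 1 := by
      intro i
      have hne : M i 0 0 * M i 1 1 - M i 0 1 * M i 1 0 ≠ 0 := by
        intro h0
        obtain ⟨z, hz, hMz⟩ := Matrix.exists_mulVec_eq_zero_iff.2 (show (M i).det = 0 by
          rw [Matrix.det_fin_two, h0])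
        set u : Fin n → F := z 0 • B ⟨i, 0⟩ + z 1 • B ⟨i, 1⟩ with hu
        have hgu : (g : Matrix (Fin n) (Fin n) F) *ᵥ u = 0 := by
          refine B.repr.injective (Finsupp.ext fun x => ?_)
          obtain ⟨j, r⟩ := x
          obtain ⟨j, rfl⟩ := σ.surjective j
          rw [hco, map_zero, Finsupp.zero_apply]
          by_cases hji : j = i
          · subst hji
            have := congrFun hMz r
            simpa [hu, Matrix.mulVec, dotProduct, Fin.sum_univ_two] using this
          · simp [hu, Ne.symm hji]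
        have hu0 : u = 0 := by
          have := congrArg (fun w => ((g⁻¹ : GL (Fin n) F) : Matrix (Fin n) (Fin n) F) *ᵥ w) hgu
          simpa [Matrix.mulVec_mulVec, ← Units.val_mul] using this
        refine hz (funext fun r => ?_)
        have := congrArg (fun w => B.repr w ⟨i, r⟩) hu0
        fin_cases r <;> simpa [hu] using this
      simpa [hq] using FiniteField.pow_card_sub_one_eq_one _ hne
    refine ⟨1, fun u v => ?_⟩
    rw [Units.val_one, one_mul]
    simp only [hf]
    rw [← Equiv.sum_comp σ]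
    refine Finset.sum_congr rfl fun i _ => ?_
    simp only [hco]
    linear_combination (B.repr u ⟨i, 0⟩ * B.repr v ⟨i, 1⟩ - B.repr u ⟨i, 1⟩ * B.repr v ⟨i, 0⟩) * hdet i

end Planes

end Cfsg.Agent.Lib.LinearMax
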