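import Cfsg.Agent.Lib.SLTwoPrime.Main
import Cfsg.Agent.Lib.LinearMax.Forms
import Cfsg.Agent.Lib.LinearMax.SubField
import Cfsg.Agent.Lib.KnownA.PrimeDim.Core

/-!
Maximal subgroups of the special linear group in dimension twelve, up to the structure of the socle.
-/

set_option autoImplicit false

namespace Cfsg.Agent.Lib.LinearMax

open Cfsg.Geo Matrix Cfsg.Agent.Lib.SLTwoPrime
open scoped MatrixGroups Kronecker

variable {F : Type*} [Field F] [Fintype F]

/-- An invariant field of matrices in dimension twelve gives one of degree two or three. -/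
theorem twelve_field {H : Subgroup (GL (Fin 12) F)} {A : Subalgebra F (Matrix (Fin 12) (Fin 12) F)} {r : ℕ}
    (hA : IsFieldSubalgebra r A) (hinv : SLTwoPrime.Inv H A) :
    r = 1 ∨ ∃ (s : ℕ) (K : Subalgebra F (Matrix (Fin 12) (Fin 12) F)), (s = 2 ∨ s = 3) ∧ IsFieldSubalgebra s K ∧
      H ≤ subalgebraNormalizer K := by
  let hfield : IsField A := ⟨exists_pair_ne A, fun x y => Subtype.ext (hA.comm x x.2 y y.2), fun {x} hx => by
    obtain ⟨y, hy, hxy⟩ := hA.inv x x.2 (fun h => hx (Subtype.ext h))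
    exact ⟨⟨y, hy⟩, Subtype.ext hxy⟩⟩
  letI : Field A := hfield.toField
  have hdvd : r ∣ 12 := hA.finrank_eq ▸ dvd_of_field_hom A.val
  have hmem : r ∈ Nat.divisors 12 := Nat.mem_divisors.2 ⟨hdvd, by norm_num⟩
  have key : ∀ a ∈ Nat.divisors 12, a = 1 ∨ (0 < a ∧ (2 ∣ a ∨ 3 ∣ a)) := by decide
  rcases key r hmem with h | ⟨hr, h⟩
  · exact Or.inl h
  · right
    rcases h with h | h
    · obtain ⟨L, hL, hle⟩ := LinearMax.exists_subfield hr h hA
      exact ⟨2, L, Or.inl rfl, hL, (le_normalizer_of_inv hinv).trans hle⟩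
    · obtain ⟨L, hL, hle⟩ := LinearMax.exists_subfield hr h hA
      exact ⟨3, L, Or.inr rfl, hL, (le_normalizer_of_inv hinv).trans hle⟩

/-- Dimension twelve, given the structure of a minimal non-scalar normal subgroup. -/
theorem twelve_cases
    (core : ∀ {H P : Subgroup (GL (Fin 12) F)}, P ≤ H → (∀ h ∈ H, ∀ x ∈ P, h * x * h⁻¹ ∈ P) →
      ¬ P ≤ scalars (Fin 12) F →
      (∀ M : Subgroup (GL (Fin 12) F), M ≤ P → (∀ h ∈ H, ∀ x ∈ M, h * x * h⁻¹ ∈ M) →
        ¬ M ≤ scalars (Fin 12) F → M = P) →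
      (∀ N : Subgroup (GL (Fin 12) F), (∀ h ∈ H, ∀ x ∈ N, h * x * h⁻¹ ∈ N) →
        N ≤ scalars (Fin 12) F ∨ adj N = ⊤) →
      ActsAbsolutelyIrreducibly (matrixSet P) → KnownA.PrimeDim.Core H P)
    (H : Subgroup (GL (Fin 12) F)) (hH : IsMaximalIn (specialLinear (Fin 12) F) H) :
    (∃ W : Submodule F (Fin 12 → F), W ≠ ⊥ ∧ W ≠ ⊤ ∧ H = subspaceStabilizer W ⊓ specialLinear (Fin 12) F) ∨
    (5 ≤ Fintype.card F ∧ ∃ D : Fin 12 → Submodule F (Fin 12 → F), IsMDecomposition 1 D ∧ H = decompositionStabilizer D ⊓ specialLinear (Fin 12) F) ∨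
    (3 ≤ Fintype.card F ∧ ∃ D : Fin 6 → Submodule F (Fin 12 → F), IsMDecomposition 2 D ∧ H = decompositionStabilizer D ⊓ specialLinear (Fin 12) F) ∨
    (∃ D : Fin 4 → Submodule F (Fin 12 → F), IsMDecomposition 3 D ∧ H = decompositionStabilizer D ⊓ specialLinear (Fin 12) F) ∨
    (∃ D : Fin 3 → Submodule F (Fin 12 → F), IsMDecomposition 4 D ∧ H = decompositionStabilizer D ⊓ specialLinear (Fin 12) F) ∨
    (∃ D : Fin 2 → Submodule F (Fin 12 → F), IsMDecomposition 6 D ∧ H = decompositionStabilizer D ⊓ specialLinear (Fin 12) F) ∨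
    (∃ K : Subalgebra F (Matrix (Fin 12) (Fin 12) F), IsFieldSubalgebra 2 K ∧ H = subalgebraNormalizer K ⊓ specialLinear (Fin 12) F) ∨
    (∃ K : Subalgebra F (Matrix (Fin 12) (Fin 12) F), IsFieldSubalgebra 3 K ∧ H = subalgebraNormalizer K ⊓ specialLinear (Fin 12) F) ∨
    (3 ≤ Fintype.card F ∧ ∃ (e : Fin 12 ≃ Fin 2 × Fin 6) (P : GL (Fin 12) F), H = tensorProductSubgroup 2 6 e P ⊓ specialLinear (Fin 12) F) ∨
    (∃ (e : Fin 12 ≃ Fin 3 × Fin 4) (P : GL (Fin 12) F), H = tensorProductSubgroup 3 4 e P ⊓ specialLinear (Fin 12) F) ∨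
    (∃ (F₀ : Subfield F) (r : ℕ) (P : GL (Fin 12) F), r.Prime ∧ Fintype.card F = Nat.card F₀ ^ r ∧ H = subfieldSubgroup F₀ P ⊓ specialLinear (Fin 12) F) ∨
    (Odd (Fintype.card F) ∧ ∃ Q : (Fin 12 → F) → F, IsNondegenerateQuadraticForm Q ∧ H = quadSimilarityGroup Q ⊓ specialLinear (Fin 12) F) ∨
    (∃ f : (Fin 12 → F) → (Fin 12 → F) → F, IsSymplecticForm f ∧ H = similarityGroup f ⊓ specialLinear (Fin 12) F) ∨
    (∃ (σ : F ≃+* F) (f : (Fin 12 → F) → (Fin 12 → F) → F), IsUnitaryForm σ f ∧ H = similarityGroup f ⊓ specialLinear (Fin 12) F) ∨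
    InLinearResidualClass H := by
  classical
  have hcard3 : 3 ≤ Fintype.card (Fin 12) := by simp
  have hq2 : 2 ≤ Fintype.card F := Fintype.one_lt_card
  by_contra hout
  simp only [not_or] at hout
  obtain ⟨oW, oL, oP, oD3, oD4, oD6, oK2, oK3, oT, oT3, oS, oQ, oF, oU, oR⟩ := hout
  -- reducible case
  have hirr : ActsIrreducibly (matrixSet H) := by
    intro W hW
    by_contra hcon
    push Not at hcon
    refine oW ⟨W, hcon.1, hcon.2, eq_inf hH (fun g hg v => ⟨fun hv => ?_, fun hv => ?_⟩)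
      (SLTwoPrime.not_le_subspaceStabilizer hcon.1 hcon.2)⟩
    · exact hW _ ⟨g, hg, rfl⟩ ⟨v, hv, toLin'_apply _ _⟩
    · have hv' : (g : Matrix (Fin 12) (Fin 12) F) *ᵥ v ∈ W := hv
      have := hW _ ⟨g⁻¹, inv_mem hg, rfl⟩ ⟨_, hv', toLin'_apply _ _⟩
      simpa [mulVec_mulVec] using this
  have oQ' : ∀ Q : (Fin 12 → F) → F, Odd (Fintype.card F) → IsNondegenerateQuadraticForm Q →
      ¬ H ≤ quadSimilarityGroup Q := fun Q hoddq hQ hle =>
    oQ ⟨hoddq, Q, hQ, eq_inf hH hle (KnownA.PrimeDim.not_le_quadSimilarityGroup (by norm_num) hQ)⟩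
  have oF' : ∀ f : (Fin 12 → F) → (Fin 12 → F) → F, IsSymplecticForm f → ¬ H ≤ similarityGroup f :=
    fun f hf hle => oF ⟨f, hf, eq_inf hH hle (KnownA.PrimeDim.not_le_similarityGroup (by norm_num)
      (KnownA.PrimeDim.Sesq.of_bilinear hf.bilinear) hf.nondegenerate)⟩
  have oU' : ∀ (σ : F ≃+* F) (f : (Fin 12 → F) → (Fin 12 → F) → F), IsUnitaryForm σ f → ¬ H ≤ similarityGroup f :=
    fun σ f hf hle => oU ⟨σ, f, hf, eq_inf hH hle (KnownA.PrimeDim.not_le_similarityGroup (by norm_num)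
      (KnownA.PrimeDim.Sesq.of_unitary hf) hf.nondegenerate)⟩
  -- decompositions
  have hdec : ∀ (t k : ℕ) (D : Fin t → Submodule F (Fin 12 → F)), IsMDecomposition k D →
      ¬ H ≤ decompositionStabilizer D := by
    intro t k D hD hle
    have htk : t * k = 12 := by
      obtain ⟨b, -⟩ := decomp_coords hD
      have := Module.finrank_eq_card_basis b
      simp only [Module.finrank_fintype_fun_eq_card, Fintype.card_fin, Fintype.card_prod] at this
      omega
    have key : ∀ a ∈ Nat.divisors 12, a = 1 ∨ a = 2 ∨ a = 3 ∨ a = 4 ∨ a = 6 ∨ a = 12 := by decide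
    have hk := key k (Nat.mem_divisors.2 ⟨Dvd.intro_left t htk, by norm_num⟩)
    have hnle := SLTwoPrime.not_le_decompositionStabilizer hD hcard3
    have ht2 := hD.two_le
    rcases hk with rfl | rfl | rfl | rfl | rfl | rfl
    · obtain rfl : t = 12 := by omega
      by_cases hq : 5 ≤ Fintype.card F
      · exact oL ⟨hq, D, hD, eq_inf hH hle hnle⟩
      · have : Fintype.card F = 2 ∨ Fintype.card F = 3 ∨ Fintype.card F = 4 := by omega
        rcases this with hq | hq | hq
        · exact lines_two hq hD (by simp) hle hirr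
        · obtain ⟨Q, hQ, hQle⟩ := lines_three hq hD hle
          exact oQ' Q (by rw [hq]; decide) hQ hQle
        · obtain ⟨s, f, hf, hfle⟩ := lines_four hq hD hle
          exact oU' s f hf hfle
    · obtain rfl : t = 6 := by omega
      by_cases hq : 3 ≤ Fintype.card F
      · exact oP ⟨hq, D, hD, eq_inf hH hle hnle⟩
      · obtain ⟨f, hf, hfle⟩ := planes_two (by omega) hD hle
        exact oF' f hf hfle
    · obtain rfl : t = 4 := by omega
      exact oD3 ⟨D, hD, eq_inf hH hle hnle⟩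
    · obtain rfl : t = 3 := by omega
      exact oD4 ⟨D, hD, eq_inf hH hle hnle⟩
    · obtain rfl : t = 2 := by omega
      exact oD6 ⟨D, hD, eq_inf hH hle hnle⟩
    · omega
  -- invariant commutative algebras are scalar
  have hcomm : ∀ A : Subalgebra F (Matrix (Fin 12) (Fin 12) F), SLTwoPrime.Inv H A →
      (∀ x ∈ A, ∀ y ∈ A, x * y = y * x) → ∀ a ∈ A, ∃ c : F, a = c • 1 := by
    intro A hA hAc a ha
    rcases comm_cases hirr hA hAc with hf | ⟨t, k, D, hD, hle⟩
    · rcases twelve_field hf hA with h1 | ⟨r', K, hr', hK, hle⟩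
      · obtain ⟨v, hv⟩ := finrank_eq_one_iff'.1 h1
        obtain ⟨c₁, hc₁⟩ := hv.2 ⟨a, ha⟩
        obtain ⟨c₂, hc₂⟩ := hv.2 1
        have hc20 : c₂ ≠ 0 := fun h0 => by
          rw [h0, zero_smul] at hc₂
          exact one_ne_zero (α := Matrix (Fin 12) (Fin 12) F) (congrArg Subtype.val hc₂).symm
        have h1' := congrArg Subtype.val hc₂
        have h2' := congrArg Subtype.val hc₁
        simp only [Subalgebra.coe_smul, Subalgebra.coe_one] at h1' h2'
        exact ⟨c₁ * c₂⁻¹, by rw [← h1', ← h2', smul_smul, inv_mul_cancel_right₀ hc20]⟩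
      · rcases hr' with rfl | rfl
        · exact absurd ⟨K, hK, eq_inf hH hle (SLTwoPrime.not_le_subalgebraNormalizer hK le_rfl hcard3)⟩ oK2
        · exact absurd ⟨K, hK, eq_inf hH hle (SLTwoPrime.not_le_subalgebraNormalizer hK (by norm_num) hcard3)⟩ oK3
    · exact absurd hle (hdec t k D hD)
  -- tensor decompositions
  have htens : ∀ (e : Fin 12 ≃ Fin 2 × Fin 6) (P : GL (Fin 12) F), ¬ H ≤ tensorProductSubgroup 2 6 e P := by
    intro e P hle
    by_cases hq : 3 ≤ Fintype.card F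
    · exact oT ⟨hq, e, P, eq_inf hH hle (SLTwoPrime.not_le_tensorProductSubgroup le_rfl (by norm_num) e P)⟩
    have hq' : Fintype.card F = 2 := by omega
    let R : Matrix (Fin 2 × Fin 6) (Fin 2 × Fin 6) F ≃ₐ[F] Matrix (Fin 12) (Fin 12) F :=
      (Matrix.reindexAlgEquiv F F e.symm).trans (cjA P)
    let W : Matrix (Fin 2) (Fin 2) F := !![0, 1; 1, 1]
    let X := R (W ⊗ₖ (1 : Matrix (Fin 6) (Fin 6) F))
    let K := Algebra.adjoin F ({X} : Set (Matrix (Fin 12) (Fin 12) F))
    have hKc : ∀ x ∈ K, ∀ y ∈ K, x * y = y * x := by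
      intro x hx y hy
      exact congrArg Subtype.val ((Algebra.adjoinCommRingOfComm F (s := ({X} : Set (Matrix (Fin 12) (Fin 12) F)))
        (by simp)).mul_comm ⟨x, hx⟩ ⟨y, hy⟩)
    have hKi : SLTwoPrime.Inv H K := by
      intro h hh a ha
      induction ha using Algebra.adjoin_induction with
      | mem y hy =>
        obtain rfl := Set.mem_singleton_iff.1 hy
        obtain ⟨_, ⟨g, ⟨A, B, hg⟩, rfl⟩, rfl⟩ := hle hh
        set gg := (MulAut.conj P).toMonoidHom ((glReindex e.symm).toMonoidHom g)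
        have hval : (gg : Matrix (Fin 12) (Fin 12) F) = R (g : Matrix (Fin 2 × Fin 6) (Fin 2 × Fin 6) F) := rfl
        have key : ∀ Y : Matrix (Fin 2) (Fin 2) F, (A : Matrix (Fin 2) (Fin 2) F) * W = Y * A →
            cjA gg X = R (Y ⊗ₖ 1) := by
          intro Y hY
          rw [cjA_apply, Units.mul_inv_eq_iff_eq_mul, hval, ← map_mul, ← map_mul, hg, ← mul_kronecker_mul,
            ← mul_kronecker_mul, hY, one_mul, mul_one]
        rcases two_by_two hq' A with h2 | h2
        · rw [key _ h2]; exact Algebra.subset_adjoin rfl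
        · rw [key _ h2, add_kronecker, one_kronecker_one, map_add, map_one]
          exact add_mem (one_mem _) (Algebra.subset_adjoin rfl)
      | algebraMap c => rw [AlgEquiv.commutes]; exact Subalgebra.algebraMap_mem _ c
      | add a b _ _ ha hb => rw [map_add]; exact add_mem ha hb
      | mul a b _ _ ha hb => rw [map_mul]; exact mul_mem ha hb
    obtain ⟨c, hc⟩ := hcomm K hKi hKc X (Algebra.subset_adjoin rfl)
    have h0 : W ⊗ₖ (1 : Matrix (Fin 6) (Fin 6) F) = c • 1 := R.injective (by rw [map_smul, map_one]; exact hc)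
    have := congrFun₂ h0 (0, 0) (1, 0)
    simp [W, Matrix.kroneckerMap_apply, Matrix.one_apply] at this
  have htens3 : ∀ (e : Fin 12 ≃ Fin 3 × Fin 4) (P : GL (Fin 12) F), ¬ H ≤ tensorProductSubgroup 3 4 e P :=
    fun e P hle => oT3 ⟨e, P, eq_inf hH hle
      (SLTwoPrime.not_le_tensorProductSubgroup (by norm_num) (by norm_num) e P)⟩
  -- normalised subgroups are scalar or span
  have hspan : ∀ N : Subgroup (GL (Fin 12) F), (∀ h ∈ H, ∀ x ∈ N, h * x * h⁻¹ ∈ N) →
      N ≤ scalars (Fin 12) F ∨ adj N = ⊤ := by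
    intro N hN
    have hA := inv_adj hN
    obtain ⟨d, φ, hd, hrange, hφ⟩ := matrix_form hirr hA fun z hz hzc =>
      hcomm _ (inv_centre hA) (fun x hx y hy => ((mem_centreAlg.1 hx).2 y (mem_centreAlg.1 hy).1).symm) z
        (mem_centreAlg.2 ⟨hz, fun a ha => (hzc a ha).symm⟩)
    obtain ⟨w, e, P, hdw, hP⟩ := units_form hd φ
    rw [Fintype.card_fin] at hdw
    have hw : 0 < w := Nat.pos_of_ne_zero fun h => by subst h; omega
    have hle : H ≤ tensorProductSubgroup d w e P := fun h hh =>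
      normalizer_form hd hφ hP hw h fun a ha => hrange ▸ hA h hh a (hrange ▸ ha)
    have key : ∀ a ∈ Nat.divisors 12, a = 1 ∨ a = 2 ∨ a = 3 ∨ a = 4 ∨ a = 6 ∨ a = 12 := by decide
    rcases key d (Nat.mem_divisors.2 ⟨Dvd.intro w hdw, by norm_num⟩) with rfl | rfl | rfl | rfl | rfl | rfl
    · left
      intro x hx
      have hx' : (x : Matrix (Fin 12) (Fin 12) F) ∈ φ.range := hrange ▸ mem_adj hx
      obtain ⟨a, ha⟩ := hx'
      have : a = a ⟨0, hd⟩ ⟨0, hd⟩ • 1 := by
        ext i j; obtain rfl : i = ⟨0, hd⟩ := Fin.ext (by omega); obtain rfl : j = ⟨0, hd⟩ := Fin.ext (by omega); simp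
      refine mem_scalars_of_val (c := a ⟨0, hd⟩ ⟨0, hd⟩) ?_
      rw [← ha]; change φ a = _
      conv_lhs => rw [this]
      rw [map_smul, map_one]
    · obtain rfl : w = 6 := by omega
      exact absurd hle (htens e P)
    · obtain rfl : w = 4 := by omega
      exact absurd hle (htens3 e P)
    · obtain rfl : w = 3 := by omega
      exact absurd (fun h hh => tensor_swap e P (hle hh)) (htens3 _ P)
    · obtain rfl : w = 2 := by omega
      exact absurd (fun h hh => tensor_swap e P (hle hh)) (htens _ P)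
    · right
      rw [← hrange, eq_top_iff]
      have : Module.finrank F φ.range = Module.finrank F (Matrix (Fin 12) (Fin 12) F) := by
        rw [← (AlgEquiv.ofInjective φ hφ).toLinearEquiv.finrank_eq]
      rw [← Subalgebra.finrank_toSubmodule] at this
      exact (Algebra.toSubmodule_eq_top.1 (Submodule.eq_top_of_finrank_eq this)).ge
  have hnsc : ¬ H ≤ scalars (Fin 12) F := by
    intro hle
    set v : Fin 12 → F := Pi.single 0 1
    have hv : v ≠ 0 := fun h => one_ne_zero (α := F) (by simpa [v] using congrFun h 0)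
    rcases eq_bot_or_top hirr (Submodule.span F {v}) (fun g hg x hx => by
      obtain ⟨c, hc⟩ := (mem_scalars_iff g).1 (hle hg)
      rw [hc, smul_mulVec, one_mulVec]
      exact Submodule.smul_mem _ _ hx) with h | h
    · exact hv (by simpa using h)
    · have := finrank_span_singleton (K := F) hv
      rw [h, finrank_top, Module.finrank_fintype_fun_eq_card, Fintype.card_fin] at this
      omega
  obtain ⟨P, hPmem, hPmin⟩ := Set.exists_min_image
    {N : Subgroup (GL (Fin 12) F) | N ≤ H ∧ (∀ g ∈ H, ∀ x ∈ N, g * x * g⁻¹ ∈ N) ∧ ¬ N ≤ scalars (Fin 12) F}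
    (fun N => Nat.card N) (Set.toFinite _) ⟨H, le_rfl, fun g hg x hx => mul_mem (mul_mem hg hx) (inv_mem hg), hnsc⟩
  obtain ⟨hPH, hPn, hPsc⟩ := hPmem
  have habs := absIrred_of_top ((hspan P hPn).resolve_left hPsc)
  have hcore := core hPH hPn hPsc (fun M hM hMn hMs =>
    Subgroup.eq_of_le_of_card_ge hM (hPmin M ⟨hM.trans hPH, hMn, hMs⟩)) hspan habs
  rcases LinearMax.forms (by norm_num) hH hcore.le hcore.normal hcore.perfect hcore.simple hcore.nonabelian
      hcore.centralizer_scalar hcore.absIrred with h | h | h | h | h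
  · exact oS h
  · exact oQ h
  · exact oF h
  · exact oU h
  · exact oR h

end Cfsg.Agent.Lib.LinearMax
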